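import Groth.Agent.SuppInj95.Basic
import Groth.Agent.LocCohZ46.Open

/-!
Local cohomology sheaves with locally closed supports as sheafified `Ext` presheaves.
-/

set_option autoImplicit false
universe u

open CategoryTheory CategoryTheory.Limits TopologicalSpace Opposite CategoryTheory.Abelian

noncomputable section

namespace Groth.Agent.SuppInj95

open Groth.Agent.LocCohZ46

variable {X : TopCat.{u}} {W V : Opens X} (h : W ≤ V)

/-- `V' ↦ ℤ_{V ⊓ V'}/ℤ_{W ⊓ V'}`. -/
def Zfun : Opens X ⥤ CohTop.Ab X where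
  obj V' := LocCohZ.zq (inf_le_inf_right V' h : W ⊓ V' ≤ V ⊓ V')
  map {V'' V'} i := LocCohZ.zqMap (inf_le_inf_right V' h) (inf_le_inf_right V'' h)
    (inf_le_inf_left W i.le) (inf_le_inf_left V i.le)
  map_id V' := zqMap_self _ _ _
  map_comp i j := (zqMap_comp _ _ _ _ _ _ _).symm

variable (B : CohTop.Ab X) (V' : Opens X)

/-- The trace of `V'` on the subspace. -/
abbrev tr (V : Opens X) (V' : Opens X) : Opens (TopCat.of V) := (Opens.map (CohCx.incl V)).obj V'

/-- The preimage of an open, back in the space. -/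
lemma imU_le : imU V (tr V V') ≤ V ⊓ V' := (imU_map V V').le.trans (le_of_eq (inf_comm _ _))

lemma le_imU : V ⊓ V' ≤ imU V (tr V V') := (le_of_eq (inf_comm _ _)).trans (imU_map V V').ge

lemma imU_inf_le : imU V ((tr V V') ⊓ (SuppFam.inOpen V W)) ≤ W ⊓ V' := fun x ⟨y, hy, e⟩ => e ▸ ⟨hy.2, hy.1⟩

lemma le_imU_inf (h : W ≤ V) : W ⊓ V' ≤ imU V ((tr V V') ⊓ (SuppFam.inOpen V W)) := fun x hx => ⟨⟨x, h hx.1⟩, ⟨hx.2, hx.1⟩, rfl⟩

/-- Restricting there and back. -/
lemma map_back {Z : TopCat.{u}} (F : CohTop.Ab Z) {A A' : (Opens Z)ᵒᵖ} (f : A ⟶ A') (g : A' ⟶ A) (s : F.obj.obj A) :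
    F.obj.map g (F.obj.map f s) = s := by
  rw [← Functor.map_comp_apply, Subsingleton.elim (f ≫ g) (𝟙 _), CategoryTheory.Functor.map_id]
  rfl

/-- The section on the subspace of a map out of the sheaf of a pair. -/
def toSub (φ : (Zfun h).obj V' ⟶ B) : (CohTop.restr B V).obj.obj (op (tr V V')) :=
  B.obj.map (homOfLE (imU_le V')).op (sig (inf_le_inf_right V' h) φ)

lemma toSub_res (φ : (Zfun h).obj V' ⟶ B) :
    (CohTop.restr B V).obj.map (homOfLE (inf_le_left : (tr V V') ⊓ (SuppFam.inOpen V W) ≤ (tr V V'))).op (toSub h B V' φ) = 0 := by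
  refine (map_map_eq B _ _ (homOfLE (inf_le_inf_right V' h)).op (homOfLE (imU_inf_le (W := W) V')).op _).trans ?_
  exact (congrArg (B.obj.map (homOfLE (imU_inf_le (W := W) V')).op) (sig_res (inf_le_inf_right V' h) φ)).trans (map_zero _)

/-- Maps out of the sheaves of pairs as supported sections on the subspace. -/
def suppLC (φ : (Zfun h).obj V' ⟶ B) :
    (CohCx.sectSupp (SuppFam.inOpen V W) (CohTop.restr B V)).obj.obj (op (tr V V')) :=
  (exists_suppι (SuppFam.inOpen V W) (CohTop.restr B V) (tr V V') (toSub h B V' φ) (toSub_res h B V' φ)).choose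

lemma suppι_suppLC (φ : (Zfun h).obj V' ⟶ B) :
    suppι (SuppFam.inOpen V W) (CohTop.restr B V) (tr V V') (suppLC h B V' φ) = toSub h B V' φ :=
  (exists_suppι (SuppFam.inOpen V W) (CohTop.restr B V) (tr V V') (toSub h B V' φ) (toSub_res h B V' φ)).choose_spec

/-- Maps out of the sheaves of pairs are the supported sections on the subspace. -/
def suppLCEquiv : ((Zfun h).obj V' ⟶ B) ≃+ (CohCx.sectSupp (SuppFam.inOpen V W) (CohTop.restr B V)).obj.obj (op (tr V V')) :=
  AddEquiv.ofBijective (AddMonoidHom.mk' (suppLC h B V')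
    (fun φ ψ => suppι_injective (SuppFam.inOpen V W) (CohTop.restr B V) (tr V V') (by
      rw [map_add, suppι_suppLC, suppι_suppLC, suppι_suppLC, toSub, toSub, toSub]
      erw [sig_add (inf_le_inf_right V' h) φ ψ]
      exact map_add _ _ _)))
    ⟨fun φ ψ e => by
      refine sig_injective (inf_le_inf_right V' h) _ ?_
      have e1 : toSub h B V' φ = toSub h B V' ψ := (suppι_suppLC h B V' φ).symm.trans
        ((congrArg (suppι (SuppFam.inOpen V W) (CohTop.restr B V) (tr V V')) e).trans (suppι_suppLC h B V' ψ))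
      have e2 := congrArg (B.obj.map (homOfLE (le_imU V')).op) e1
      exact (map_back B _ _ _).symm.trans (e2.trans (map_back B _ _ _)),
    fun s => by
      let t : B.obj.obj (op (V ⊓ V')) :=
        B.obj.map (homOfLE (le_imU V')).op (suppι (SuppFam.inOpen V W) (CohTop.restr B V) (tr V V') s)
      have ht : B.obj.map (homOfLE (inf_le_inf_right V' h : W ⊓ V' ≤ V ⊓ V')).op t = 0 := by
        refine (map_map_eq B _ _ (homOfLE (imU_mono V (inf_le_left : (tr V V') ⊓ (SuppFam.inOpen V W) ≤ (tr V V')))).op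
          (homOfLE (le_imU_inf V' h)).op _).trans ?_
        exact (congrArg (B.obj.map (homOfLE (le_imU_inf V' h)).op)
          (suppι_res (SuppFam.inOpen V W) (CohTop.restr B V) (tr V V') s)).trans (map_zero _)
      obtain ⟨φ, hφ⟩ := exists_sig (inf_le_inf_right V' h) t ht
      refine ⟨φ, suppι_injective (SuppFam.inOpen V W) (CohTop.restr B V) (tr V V') ((suppι_suppLC h B V' φ).trans ?_)⟩
      rw [toSub]
      erw [hφ]
      exact map_back B _ _ _⟩

lemma suppι_suppLCEquiv (φ : (Zfun h).obj V' ⟶ B) :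
    suppι (SuppFam.inOpen V W) (CohTop.restr B V) (tr V V') (suppLCEquiv h B V' φ) = toSub h B V' φ :=
  suppι_suppLC h B V' φ

/-- Sections with locally closed supports are maps out of the sheaves of pairs. -/
def suppLCPreIso :
    SiteCoh.homPre (Zfun h) ≅
      SuppFam.sectSuppLC h ⋙ sheafToPresheaf (Opens.grothendieckTopology X) AddCommGrpCat.{u} :=
  NatIso.ofComponents
    (fun B => NatIso.ofComponents (fun P => (suppLCEquiv h B P.unop).toAddCommGrpIso) (fun {P P'} i => by
      ext φ
      change suppLCEquiv h B P'.unop ((Zfun h).map i.unop ≫ φ) =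
        (CohCx.sectSupp (SuppFam.inOpen V W) (CohTop.restr B V)).obj.map ((Opens.map (CohCx.incl V)).op.map i)
          (suppLCEquiv h B P.unop φ)
      apply suppι_injective (SuppFam.inOpen V W) (CohTop.restr B V)
      rw [suppι_suppLCEquiv]
      refine Eq.trans ?_ ((kernel.ι (unitU (SuppFam.inOpen V W) (CohTop.restr B V))).hom.naturality_apply
        ((Opens.map (CohCx.incl V)).op.map i) _).symm
      refine Eq.trans ?_ (congrArg ((CohTop.restr B V).obj.map ((Opens.map (CohCx.incl V)).op.map i))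
        (suppι_suppLCEquiv h B P.unop φ)).symm
      rw [toSub]
      erw [sig_zqMap (inf_le_inf_right P.unop h) (inf_le_inf_right P'.unop h)
        (inf_le_inf_left W i.unop.le) (inf_le_inf_left V i.unop.le) φ]
      exact map_map_eq B _ _ _ _ _))
    (fun {B B'} g => by
      ext P φ
      change suppLCEquiv h B' P.unop (φ ≫ g) =
        ((LocCohZ.sectSuppF (SuppFam.inOpen V W)).map ((CohTop.restrFunctor V).map g)).hom.app
          (op ((Opens.map (CohCx.incl V)).obj P.unop)) (suppLCEquiv h B P.unop φ)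
      apply suppι_injective (SuppFam.inOpen V W) (CohTop.restr B' V)
      rw [suppι_suppLCEquiv]
      refine Eq.trans ?_ (ConcreteCategory.congr_hom (NatTrans.congr_app (congrArg (fun ψ => ψ.hom)
        (show (LocCohZ.sectSuppF (SuppFam.inOpen V W)).map ((CohTop.restrFunctor V).map g) ≫
            kernel.ι (unitU (SuppFam.inOpen V W) (CohTop.restr B' V)) =
          kernel.ι (unitU (SuppFam.inOpen V W) (CohTop.restr B V)) ≫ (CohTop.restrFunctor V).map g from
          kernel.lift_ι _ _ _)) (op ((Opens.map (CohCx.incl V)).obj P.unop))) _).symm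
      refine Eq.trans ?_ (congrArg (((CohTop.restrFunctor V).map g).hom.app _)
        (suppι_suppLCEquiv h B P.unop φ)).symm
      rw [toSub, toSub]
      erw [sig_comp (inf_le_inf_right P.unop h) φ g]
      exact (g.hom.naturality_apply (homOfLE (imU_le P.unop)).op _).symm)

/-- Local cohomology sheaves with locally closed supports are sheafified `Ext` presheaves. -/
def HZshLCIso (q : ℕ) :
    SuppFam.HZshLC h q ≅
      SiteCoh.extPre (Zfun h) q ⋙ presheafToSheaf (Opens.grothendieckTopology X) AddCommGrpCat.{u} :=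
  derivedSheafIso _ (Zfun h) (suppLCPreIso h) q

/-- The `Ext` presheaf is the presheaf of cohomology with supports. -/
def extPreIso (F : CohTop.Ab X) (q : ℕ) : (SiteCoh.extPre (Zfun h) q).obj F ≅ SuppFam.HZpre F q h :=
  NatIso.ofComponents (fun P => Iso.refl _) (fun {P P'} i => by
    ext x
    rfl)

end Groth.Agent.SuppInj95

end
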