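import Groth.Agent.LocCohZ46.Sheaf
import Mathlib.Topology.Sheaves.Skyscraper
import Mathlib.CategoryTheory.Abelian.Images
import Groth.Prelude.Def_SuppFam

/-!
Sections with supports of an injective sheaf form an injective sheaf.
-/

set_option autoImplicit false
universe u

open CategoryTheory CategoryTheory.Limits TopologicalSpace Opposite

namespace Groth.Agent.SuppInj95

open Groth.Agent.LocCohZ46

variable {X : TopCat.{u}} (U : Opens X)

open scoped Classical in
/-- The product of the skyscrapers of the stalks off `U`. -/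
noncomputable def P (B : CohTop.Ab X) : CohTop.Ab X :=
  ∏ᶜ fun x : {x : X // x ∉ U} => (skyscraperSheaf x.1 (TopCat.Presheaf.stalk B.obj x.1) : CohTop.Ab X)

open scoped Classical in
/-- The map to the product of the skyscrapers of the stalks off `U`. -/
noncomputable def θ (B : CohTop.Ab X) : B ⟶ P U B :=
  Pi.lift fun x => (ObjectProperty.homMk
    (StalkSkyscraperPresheafAdjunctionAuxs.toSkyscraperPresheaf x.1 (𝟙 (TopCat.Presheaf.stalk B.obj x.1))) :
      B ⟶ skyscraperSheaf x.1 (TopCat.Presheaf.stalk B.obj x.1))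

open scoped Classical in
theorem germ_eq_zero_of_θ (B : CohTop.Ab X) {W : Opens X} (s : B.obj.obj (op W))
    (hs : (θ U B).hom.app (op W) s = 0) {x : X} (hx : x ∈ W) (hxU : x ∉ U) :
    TopCat.Presheaf.germ B.obj W x hx s = 0 := by
  let q : P U B ⟶ (skyscraperSheaf x (TopCat.Presheaf.stalk B.obj x) : CohTop.Ab X) :=
    Pi.π _ (⟨x, hxU⟩ : {x : X // x ∉ U})
  have h1 := congrArg (q.hom.app (op W)) hs
  rw [map_zero] at h1
  have h2 : θ U B ≫ q = ObjectProperty.homMk
      (StalkSkyscraperPresheafAdjunctionAuxs.toSkyscraperPresheaf x (𝟙 (TopCat.Presheaf.stalk B.obj x))) :=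
    Pi.lift_π _ _
  have h3 := ConcreteCategory.congr_hom (NatTrans.congr_app (congrArg (fun φ => φ.hom) h2) (op W)) s
  have h4 : (StalkSkyscraperPresheafAdjunctionAuxs.toSkyscraperPresheaf x (𝟙 (TopCat.Presheaf.stalk B.obj x))).app (op W) s = 0 :=
    h3.symm.trans h1
  simp only [StalkSkyscraperPresheafAdjunctionAuxs.toSkyscraperPresheaf] at h4
  rw [dif_pos hx, Category.id_comp] at h4
  exact (map_eq_zero_iff _ (ConcreteCategory.bijective_of_isIso _).1).1 h4

open scoped Classical in
theorem sect_eq_zero_of_le (B : CohTop.Ab X) {W : Opens X} (hW : W ≤ U) (t : (P U B).obj.obj (op W)) :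
    t = 0 := by
  refine Concrete.Pi.map_ext _ (secFun X W) _ _ fun x => ?_
  have hT : IsTerminal ((skyscraperSheaf x.1 (TopCat.Presheaf.stalk B.obj x.1)).obj.obj (op W)) :=
    isTerminalSkyscraperSheafObjObjOfNotMem (p₀ := x.1) (A := TopCat.Presheaf.stalk B.obj x.1)
      (U := op W) fun h => x.2 (hW h)
  have : Subsingleton ((secFun X W).obj (skyscraperSheaf x.1 (TopCat.Presheaf.stalk B.obj x.1))) :=
    AddCommGrpCat.subsingleton_of_isZero (IsTerminal.isZero hT)
  exact Subsingleton.elim _ _

theorem injective_sectSupp (G : CohTop.Ab X) [Injective G] : Injective (CohCx.sectSupp U G) := by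
  refine ⟨fun {A B} a i _ => ?_⟩
  let a' : A ⟶ G := a ≫ kernel.ι (unitU U G)
  let f : A ⟶ P U B := i ≫ θ U B
  have ha : kernel.ι f ≫ a' = 0 := by
    ext W : 3
    refine AddCommGrpCat.hom_ext (AddMonoidHom.ext fun s => ?_)
    show a'.hom.app (op W.unop) ((kernel.ι f).hom.app (op W.unop) s) = 0
    set t := (kernel.ι f).hom.app (op W.unop) s
    have ht : f.hom.app (op W.unop) t = 0 :=
      ConcreteCategory.congr_hom (NatTrans.congr_app (congrArg (fun φ => φ.hom) (kernel.condition f)) (op W.unop)) s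
    apply TopCat.Presheaf.section_ext (G : TopCat.Sheaf AddCommGrpCat.{u} X)
    intro x hx
    rw [map_zero]
    by_cases hxU : x ∈ U
    · have h0 := suppι_res U G W.unop (a.hom.app (op W.unop) t)
      have h1 : TopCat.Presheaf.germ G.obj (W.unop ⊓ U) x ⟨hx, hxU⟩
          (G.obj.map (homOfLE (inf_le_left : W.unop ⊓ U ≤ W.unop)).op (a'.hom.app (op W.unop) t)) = 0 := by
        erw [h0]; exact map_zero _
      rw [TopCat.Presheaf.germ_res_apply] at h1
      exact h1
    · have hg := germ_eq_zero_of_θ U B (i.hom.app (op W.unop) t) ht hx hxU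
      have hm : Mono ((TopCat.Presheaf.stalkFunctor AddCommGrpCat.{u} x).map i.hom) :=
        (TopCat.Presheaf.mono_iff_stalk_mono
          (show (A : TopCat.Sheaf AddCommGrpCat.{u} X) ⟶ B from i)).1 (show Mono i from inferInstance) x
      have hA : TopCat.Presheaf.germ A.obj W.unop x hx t = 0 := by
        apply (AddCommGrpCat.mono_iff_injective _).1 hm
        refine (TopCat.Presheaf.stalkFunctor_map_germ_apply W.unop x hx i.hom t).trans ?_
        exact hg.trans (map_zero ((TopCat.Presheaf.stalkFunctor AddCommGrpCat.{u} x).map i.hom).hom).symm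
      refine (TopCat.Presheaf.stalkFunctor_map_germ_apply W.unop x hx a'.hom t).symm.trans ?_
      exact (congrArg _ hA).trans (map_zero ((TopCat.Presheaf.stalkFunctor AddCommGrpCat.{u} x).map a'.hom).hom)
  let ā : Abelian.coimage f ⟶ G := cokernel.desc _ a' ha
  let g : P U B ⟶ G := Injective.factorThru ā (Abelian.factorThruCoimage f)
  have hg : (θ U B ≫ g) ≫ unitU U G = 0 := by
    ext W : 3
    refine AddCommGrpCat.hom_ext (AddMonoidHom.ext fun s => ?_)
    refine (unit_app_eq_zero_iff U G W.unop _).2 ?_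
    have hn := ConcreteCategory.congr_hom
      ((θ U B ≫ g).hom.naturality (homOfLE (inf_le_left : W.unop ⊓ U ≤ W.unop)).op) s
    refine hn.symm.trans ?_
    show g.hom.app _ ((θ U B).hom.app _ _) = 0
    rw [sect_eq_zero_of_le U B (inf_le_right : W.unop ⊓ U ≤ U) ((θ U B).hom.app _ _), map_zero]
  refine ⟨kernel.lift (unitU U G) (θ U B ≫ g) hg, ?_⟩
  apply (cancel_mono (kernel.ι (unitU U G))).1
  erw [Category.assoc, kernel.lift_ι]
  show i ≫ θ U B ≫ g = a'
  rw [← Category.assoc, show i ≫ θ U B = f from rfl, ← Abelian.coimage.fac f]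
  show (Abelian.coimage.π f ≫ Abelian.factorThruCoimage f) ≫ g = a'
  rw [Category.assoc, Injective.comp_factorThru]
  exact cokernel.π_desc _ _ _

end Groth.Agent.SuppInj95
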